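import Cfsg.Agent.H612.Ore.SpCover
import Cfsg.Agent.StandardComponent.SpTwoAut
import Cfsg.Agent.H494.TC.Base

/-!
# `PSp₆(2)`: one class of elements of order 7 covers (S2464, S4173) (helper142)

`S = Sp₆(2)`, `X` of order 7; each of the thirty representatives of helper612's class cover except the identity is
`(u X u⁻¹) (v X v⁻¹)` for explicit words `u`, `v` in the transvections.
-/

set_option autoImplicit false
set_option maxRecDepth 100000

namespace Cfsg.Agent.H142.T6.SpSix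

open Cfsg.Agent.H612.Ore
open Cfsg.Agent.SporRec.TwoSp6.Sp (V S om tr act act_one act_mul act_ext act_add act_om act_tr enc enc_xor om_enc
  fN exists_enc v vc tr_sq closure_v card_S)

/-! ### Words of vectors -/

/-- product of the transvections in the vectors with the given codes -/
def tw (w : List ℕ) : S := (w.map fun c => tr (enc c)).prod

theorem tw_nil : tw [] = 1 := rfl

theorem tw_cons (c : ℕ) (w : List ℕ) : tw (c :: w) = tr (enc c) * tw w := by
  unfold tw; rw [List.map_cons, List.prod_cons]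

theorem tw_append (u w : List ℕ) : tw (u ++ w) = tw u * tw w := by
  unfold tw; rw [List.map_append, List.prod_append]

theorem tw_reverse (w : List ℕ) : tw w.reverse = (tw w)⁻¹ := by
  induction w with
  | nil => rw [List.reverse_nil, tw_nil, inv_one]
  | cons c w ih =>
    rw [List.reverse_cons, tw_append, ih, tw_cons, tw_cons, tw_nil, mul_one, mul_inv_rev,
      inv_eq_of_mul_eq_one_right (tr_sq (enc c))]

/-- one transvection on codes -/
def sc (c v : ℕ) : ℕ := bif B6 v c then v ^^^ c else v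

/-- a word on codes -/
def sw (w : List ℕ) (v : ℕ) : ℕ := w.foldr sc v

theorem ap_tr {c : ℕ} (hc : c < 64) {v : ℕ} (hv : v < 64) : spAct.ap (tr (enc c)) v = sc c v := by
  rw [spAct_ap, act_tr, sc]
  have h := B6_om hv hc
  have hlt : v ^^^ c < 64 := Nat.xor_lt_two_pow (n := 6) hv hc
  by_cases h1 : om (enc v) (enc c) = 1
  · rw [h, decide_eq_true h1, cond_true, h1, one_smul, ← enc_xor, cd_enc _ hlt]
  · have h0 : om (enc v) (enc c) = 0 := by
      rcases Cfsg.Agent.SporRec.TwoSp6.Sp.om_cases (enc v) (enc c) with h2 | h2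
      · exact h2
      · exact absurd h2 h1
    rw [h, decide_eq_false h1, cond_false, h0, zero_smul, add_zero, cd_enc _ hv]

theorem ap_tw {w : List ℕ} (hw : ∀ c ∈ w, c < 64) {v : ℕ} (hv : v < 64) : spAct.ap (tw w) v = sw w v := by
  induction w with
  | nil => exact spAct.one v hv
  | cons c w ih =>
    have ih' := ih fun d hd => hw d (List.mem_cons_of_mem _ hd)
    rw [tw_cons, spAct.mul _ _ _ hv, ih', ap_tr (hw c List.mem_cons_self)]
    · rfl
    · rw [← ih']; exact spAct.lt _ _ hv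

/-- equality of two words -/
def eqw (u w : List ℕ) : Bool :=
  (u.all fun c => Nat.blt c 64) && (w.all fun c => Nat.blt c 64) &&
    (List.range 6).all fun i => sw u (2 ^ i) == sw w (2 ^ i)

theorem tw_eq {u w : List ℕ} (h : eqw u w = true) : tw u = tw w := by
  rw [eqw, Bool.and_eq_true, Bool.and_eq_true] at h
  have h1 : ∀ c ∈ u, c < 64 := fun c hc => Nat.le_of_ble_eq_true (List.all_eq_true.1 h.1.1 c hc)
  have h2 : ∀ c ∈ w, c < 64 := fun c hc => Nat.le_of_ble_eq_true (List.all_eq_true.1 h.1.2 c hc)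
  apply spAct.ext
  intro i hi
  rw [ap_tw h1 (two_pow_lt (n := 6) hi), ap_tw h2 (two_pow_lt (n := 6) hi)]
  exact eq_of_beq (List.all_eq_true.1 h.2 i (List.mem_range.2 hi))

/-- codes of the letters of the class cover -/
def ul (w : List ℕ) : List ℕ := w.map uc

theorem tw_ul (w : List ℕ) : tw (ul w) = wd tv w := by
  induction w with
  | nil => rfl
  | cons j w ih =>
    rw [ul, List.map_cons, tw_cons, wd, ← ih]
    rfl

/-! ### The data -/

/-- the element of order 7 -/
def wX : List ℕ := [11, 58, 36, 31, 3, 4]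

/-- the first conjugators -/
def us : List (List ℕ) := [[],
  [17, 58, 32, 59, 2, 2, 40, 40, 4, 3, 29, 26],
  [38, 44, 26, 7, 25, 24],
  [43, 10, 54, 15, 38, 39],
  [3, 53, 39, 15, 12, 12, 42, 45, 7, 50, 53],
  [43, 44, 20, 46],
  [37, 8, 47, 36, 3, 33, 54, 34, 20],
  [17, 54, 58, 58, 58, 13, 49, 6],
  [10, 51, 23, 39, 16],
  [24, 52, 16, 61, 28, 26],
  [15, 9, 19, 50, 53, 28, 27],
  [7, 5, 44],
  [45, 20, 62, 39, 16, 49],
  [57, 33, 29, 44, 58, 37, 11, 11, 21, 57, 38, 10],
  [43, 60, 29, 29, 1, 3, 38, 36],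
  [52, 12, 28, 3, 63],
  [12, 62, 60, 58, 7, 52, 43, 24],
  [51, 36, 37, 7, 47, 31],
  [17, 54, 22, 28],
  [48, 9, 31, 2, 14, 41, 37],
  [29, 44, 51, 27, 14],
  [5, 10, 23, 2, 2, 40, 40, 33, 29, 50, 14],
  [27, 41, 37, 27, 27, 55, 25, 46, 53, 27],
  [7, 55, 52, 17, 15, 28, 23, 4],
  [],
  [60, 20, 47, 6, 45],
  [50, 15, 40, 59, 59, 61, 61, 25, 25, 49, 54, 7],
  [42, 29, 47, 45, 12, 12, 54, 21, 20, 55],
  [29, 54, 6, 53, 8],
  [29, 42, 5, 18, 49, 33]]

/-- the second conjugators -/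
def vs : List (List ℕ) := [[36, 8, 10],
  [3, 27, 63, 20],
  [6, 51, 9, 52, 62, 21],
  [2, 59, 45, 27, 50],
  [54, 18, 41, 23, 27, 10],
  [38, 23, 30, 61, 46],
  [49, 61, 4, 42, 28, 10],
  [33, 15, 52, 42, 42, 38, 30, 46, 22],
  [7, 23, 1, 3, 37, 37, 3, 33, 30, 21, 55, 60],
  [44, 32, 35, 8, 13, 20],
  [55, 58, 17, 63, 53, 34],
  [26, 7, 33, 56, 40, 58],
  [2, 56, 4, 16, 9, 57, 32],
  [21, 10, 57, 6, 43],
  [26, 14, 42, 40],
  [37, 49, 10, 40, 15, 26],
  [31, 3, 42, 4, 18],
  [15, 14, 22, 31, 34, 43, 22],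
  [57, 16, 56, 45],
  [50, 35, 32, 28, 23],
  [45, 5, 42, 37, 1],
  [26, 21, 46, 8, 24, 12],
  [33, 46, 29, 26, 30, 25, 47, 45, 42, 40],
  [54, 8, 14, 16, 21, 55],
  [48, 40, 33, 7, 3, 60],
  [53, 58, 4, 27, 31],
  [25, 13, 58, 29],
  [43, 40, 42, 49],
  [14, 13, 11, 29, 59, 38],
  [57, 59, 6, 60, 39]]

/-- the relations -/
theorem chkA : ((List.range 30).all fun i => (i == 0) ||
    eqw (us.getD i [] ++ (wX ++ ((us.getD i []).reverse ++ (vs.getD i [] ++ (wX ++ (vs.getD i []).reverse)))))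
      (ul (rws.getD i []))) = true := by decide +kernel

theorem rel {i : ℕ} (hi : i < 30) (h0 : i ≠ 0) :
    wd tv (rws.getD i []) = (tw (us.getD i []) * tw wX * (tw (us.getD i []))⁻¹) *
      (tw (vs.getD i []) * tw wX * (tw (vs.getD i []))⁻¹) := by
  have h := List.all_eq_true.1 chkA i (List.mem_range.2 hi)
  rw [Bool.or_eq_true] at h
  rcases h with h | h
  · exact absurd (eq_of_beq h) h0
  · have h2 := tw_eq h
    rw [tw_append, tw_append, tw_append, tw_append, tw_append, tw_reverse, tw_reverse, tw_ul] at h2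
    rw [← h2]
    group

theorem chk7 : eqw (wX ++ (wX ++ (wX ++ (wX ++ (wX ++ (wX ++ wX)))))) [] = true := by decide +kernel

theorem chk1 : Nat.beq (sw wX 1) 1 = false := by decide +kernel

theorem order_X : orderOf (tw wX) = 7 := by
  have : Fact (Nat.Prime 7) := ⟨by norm_num⟩
  refine orderOf_eq_prime ?_ ?_
  · have h := tw_eq chk7
    rw [tw_append, tw_append, tw_append, tw_append, tw_append, tw_append, tw_nil] at h
    rw [← h]
    simp only [pow_succ, pow_zero, one_mul, mul_assoc]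
  · intro h
    have h1 : spAct.ap (tw wX) 1 = sw wX 1 := ap_tw (by decide) (by norm_num)
    rw [h, spAct.one 1 (by norm_num)] at h1
    have h2 := chk1
    rw [← h1, Nat.beq_refl] at h2
    exact Bool.noConfusion h2

/-- one class of elements of order 7 -/
theorem pp_S : Cfsg.Agent.H494.TC.PP S := by
  refine ⟨tw wX, by rw [order_X]; norm_num, by rw [order_X]; norm_num, fun g hg => ?_⟩
  obtain ⟨i, hi, h, hh⟩ := exists_rep30 g
  have h0 : i ≠ 0 := by
    rintro rfl
    apply hg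
    have e : h * g * h⁻¹ = 1 := hh
    rw [mul_inv_eq_one] at e
    exact mul_left_cancel (e.trans (mul_one h).symm)
  rw [rel hi h0] at hh
  refine ⟨h⁻¹ * tw (us.getD i []), h⁻¹ * tw (vs.getD i []), ?_⟩
  have e : g = h⁻¹ * (h * g * h⁻¹) * h := by group
  rw [e, hh]
  group

/-- **`PSp₆(2)`** -/
theorem pp_psp_six_two {F : Type*} [Field F] [Fintype F] (hF : Fintype.card F = 2) :
    Cfsg.Agent.H494.TC.PP (Cfsg.PSp 3 F) := by
  obtain ⟨e⟩ := Cfsg.Agent.StandardComponent.SpTwoAut.exists_equiv hF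
  exact Cfsg.Agent.H494.TC.PP.of_equiv e pp_S

end Cfsg.Agent.H142.T6.SpSix
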